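import Mathlib

/-!
# Pure ideals and closed subsets stable under generalization (helper24)
-/

set_option autoImplicit false
set_option linter.style.haveILetI false
universe u
open PrimeSpectrum

namespace Groth.Agent.Lib.Helper24.PureIdeal

variable {A : Type*} [CommRing A]

/-- elements whose germs vanish at all points of `Z` -/
def germIdeal (Z : Set (PrimeSpectrum A)) : Ideal A where
  carrier := {s | ∀ z ∈ Z, ∃ t : A, t ∉ z.asIdeal ∧ t * s = 0}
  add_mem' := by
    intro a b ha hb z hz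
    obtain ⟨t₁, h₁, e₁⟩ := ha z hz
    obtain ⟨t₂, h₂, e₂⟩ := hb z hz
    refine ⟨t₁ * t₂, fun h => (z.isPrime.mem_or_mem h).elim h₁ h₂, ?_⟩
    have : t₁ * t₂ * (a + b) = t₂ * (t₁ * a) + t₁ * (t₂ * b) := by ring
    rw [this, e₁, e₂, mul_zero, mul_zero, add_zero]
  zero_mem' := fun z _ => ⟨1, fun h => z.isPrime.ne_top ((Ideal.eq_top_iff_one _).mpr h), mul_zero _⟩
  smul_mem' := by
    intro c s hs z hz
    obtain ⟨t, h, e⟩ := hs z hz
    refine ⟨t, h, ?_⟩
    rw [smul_eq_mul, mul_left_comm, e, mul_zero]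

theorem mem_germIdeal_iff {Z : Set (PrimeSpectrum A)} {s : A} :
    s ∈ germIdeal Z ↔ ∀ z ∈ Z, ∃ t : A, t ∉ z.asIdeal ∧ t * s = 0 := Iff.rfl

theorem germIdeal_le_asIdeal {Z : Set (PrimeSpectrum A)} {z : PrimeSpectrum A} (hz : z ∈ Z) :
    germIdeal Z ≤ z.asIdeal := by
  intro s hs
  obtain ⟨t, ht, e⟩ := hs z hz
  have : t * s ∈ z.asIdeal := by rw [e]; exact zero_mem _
  exact (z.isPrime.mem_or_mem this).resolve_left ht

/-- if an ideal `𝔟` is contained in no point of the closed set `Z`, then `1 = b + j` with `b ∈ 𝔟`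
and `j` vanishing on `Z` -/
theorem exists_add_eq_one {Z : Set (PrimeSpectrum A)} (hcl : IsClosed Z) (𝔟 : Ideal A)
    (h : ∀ z ∈ Z, ¬ 𝔟 ≤ z.asIdeal) : ∃ b ∈ 𝔟, ∃ j : A, (∀ z ∈ Z, j ∈ z.asIdeal) ∧ b + j = 1 := by
  have hZ : zeroLocus (vanishingIdeal Z : Set A) = Z := by
    rw [zeroLocus_vanishingIdeal_eq_closure, hcl.closure_eq]
  have htop : 𝔟 ⊔ vanishingIdeal Z = ⊤ := by
    by_contra hne
    obtain ⟨m, hm, hle⟩ := Ideal.exists_le_maximal _ hne
    have hmZ : (⟨m, hm.isPrime⟩ : PrimeSpectrum A) ∈ Z := by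
      rw [← hZ, mem_zeroLocus]
      exact fun x hx => hle (Ideal.mem_sup_right hx)
    exact h _ hmZ (le_sup_left.trans hle)
  obtain ⟨b, hb, j, hj, hbj⟩ := Submodule.mem_sup.mp ((Ideal.eq_top_iff_one _).mp htop)
  exact ⟨b, hb, j, fun z hz => (mem_vanishingIdeal _ _).mp hj z hz, hbj⟩

/-- (A2) -/
theorem zeroLocus_germIdeal {Z : Set (PrimeSpectrum A)} (hcl : IsClosed Z)
    (hgen : StableUnderGeneralization Z) : zeroLocus (germIdeal Z : Set A) = Z := by
  apply Set.Subset.antisymm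
  · intro p hp
    by_contra hpZ
    -- the kernel of `A → A_p`
    let 𝔟 : Ideal A :=
      { carrier := {b | ∃ u : A, u ∉ p.asIdeal ∧ b * u = 0}
        add_mem' := by
          rintro a b ⟨u, hu, eu⟩ ⟨v, hv, ev⟩
          refine ⟨u * v, fun h => (p.isPrime.mem_or_mem h).elim hu hv, ?_⟩
          have : (a + b) * (u * v) = v * (a * u) + u * (b * v) := by ring
          rw [this, eu, ev, mul_zero, mul_zero, add_zero]
        zero_mem' := ⟨1, fun h => p.isPrime.ne_top ((Ideal.eq_top_iff_one _).mpr h), zero_mul _⟩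
        smul_mem' := by
          rintro c b ⟨u, hu, eu⟩
          exact ⟨u, hu, by rw [smul_eq_mul, mul_assoc, eu, mul_zero]⟩ }
    have h𝔟 : ∀ z ∈ Z, ¬ 𝔟 ≤ z.asIdeal := by
      intro z hz hle
      -- no common generization of `z` and `p`
      have hdisj : Disjoint ((⊥ : Ideal A) : Set A)
          ((z.asIdeal.primeCompl ⊔ p.asIdeal.primeCompl : Submonoid A) : Set A) := by
        rw [Set.disjoint_left]
        intro x hx hxS
        have hx0 : x = 0 := hx
        obtain ⟨t, ht, u, hu, rfl⟩ := Submonoid.mem_sup.mp hxS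
        exact ht (hle ⟨u, hu, hx0⟩)
      obtain ⟨q, hq, -, hqS⟩ := Ideal.exists_le_prime_disjoint _ _ hdisj
      have hqz : q ≤ z.asIdeal := by
        intro x hx
        by_contra hxz
        exact Set.disjoint_left.mp hqS hx
          ((le_sup_left : z.asIdeal.primeCompl ≤ _) hxz)
      have hqp : q ≤ p.asIdeal := by
        intro x hx
        by_contra hxp
        exact Set.disjoint_left.mp hqS hx
          ((le_sup_right : p.asIdeal.primeCompl ≤ _) hxp)
      have hqZ : (⟨q, hq⟩ : PrimeSpectrum A) ∈ Z :=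
        hgen ((le_iff_specializes ⟨q, hq⟩ z).mp hqz) hz
      exact hpZ (hcl.stableUnderSpecialization ((le_iff_specializes ⟨q, hq⟩ p).mp hqp) hqZ)
    obtain ⟨b, ⟨u, hu, ebu⟩, j, hj, hbj⟩ := exists_add_eq_one hcl 𝔟 h𝔟
    have hu' : u ∈ germIdeal Z := by
      intro z hz
      refine ⟨b, fun hb => ?_, ebu⟩
      have : (1 : A) ∈ z.asIdeal := by rw [← hbj]; exact add_mem hb (hj z hz)
      exact z.isPrime.ne_top ((Ideal.eq_top_iff_one _).mpr this)
    exact hu (hp hu')
  · intro z hz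
    exact germIdeal_le_asIdeal hz

/-- (A3) purity -/
theorem exists_eq_mul_of_mem_germIdeal {Z : Set (PrimeSpectrum A)} (hcl : IsClosed Z)
    (hgen : StableUnderGeneralization Z) {s : A} (hs : s ∈ germIdeal Z) :
    ∃ u ∈ germIdeal Z, s = u * s := by
  have hZ := zeroLocus_germIdeal hcl hgen
  let 𝔠 : Ideal A := LinearMap.ker (LinearMap.toSpanSingleton A A s)
  have h𝔠 : ∀ a : A, a ∈ 𝔠 ↔ a * s = 0 := fun a => by
    simp only [𝔠, LinearMap.mem_ker, LinearMap.toSpanSingleton_apply, smul_eq_mul]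
  have htop : 𝔠 ⊔ germIdeal Z = ⊤ := by
    by_contra hne
    obtain ⟨m, hm, hle⟩ := Ideal.exists_le_maximal _ hne
    have hmZ : (⟨m, hm.isPrime⟩ : PrimeSpectrum A) ∈ Z := by
      rw [← hZ, mem_zeroLocus]
      exact fun x hx => hle (Ideal.mem_sup_right hx)
    obtain ⟨t, ht, e⟩ := hs _ hmZ
    exact ht (hle (Ideal.mem_sup_left ((h𝔠 t).mpr e)))
  obtain ⟨a, ha, u, hu, hau⟩ := Submodule.mem_sup.mp ((Ideal.eq_top_iff_one _).mp htop)
  refine ⟨u, hu, ?_⟩
  have h1 : s = (a + u) * s := by rw [hau, one_mul]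
  rw [add_mul, (h𝔠 a).mp ha, zero_add] at h1
  exact h1

/-- a pure ideal has flat quotient -/
theorem flat_quotient_of_pure (I : Ideal A) (h : ∀ s ∈ I, ∃ u ∈ I, s = u * s) :
    Module.Flat A (A ⧸ I) := by
  let S1 : Submonoid A :=
    { carrier := {x | x - 1 ∈ I}
      mul_mem' := by
        intro x y hx hy
        have : x * y - 1 = (x - 1) * y + (y - 1) := by ring
        show x * y - 1 ∈ I
        rw [this]
        exact add_mem (I.mul_mem_right _ hx) hy
      one_mem' := by show (1 : A) - 1 ∈ I; rw [sub_self]; exact zero_mem _ }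
  haveI : IsLocalization S1 (A ⧸ I) := by
    refine ⟨?_, ?_, ?_⟩
    · rintro ⟨x, hx⟩
      have : algebraMap A (A ⧸ I) x = 1 := by
        rw [Ideal.Quotient.algebraMap_eq, ← map_one (Ideal.Quotient.mk I), Ideal.Quotient.eq]
        exact hx
      rw [this]
      exact isUnit_one
    · intro z
      obtain ⟨a, rfl⟩ := Ideal.Quotient.mk_surjective z
      exact ⟨(a, 1), by simp⟩
    · intro a b hab
      rw [Ideal.Quotient.algebraMap_eq, Ideal.Quotient.eq] at hab
      obtain ⟨u, hu, e⟩ := h _ hab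
      refine ⟨⟨1 - u, ?_⟩, ?_⟩
      · show 1 - u - 1 ∈ I
        have : 1 - u - 1 = -u := by ring
        rw [this]
        exact neg_mem hu
      · show (1 - u) * a = (1 - u) * b
        have : (1 - u) * (a - b) = 0 := by
          rw [sub_mul, one_mul, ← e, sub_self]
        rw [← sub_eq_zero, ← mul_sub, this]
  exact IsLocalization.flat (A ⧸ I) S1

theorem flat_quotient_germIdeal {Z : Set (PrimeSpectrum A)} (hcl : IsClosed Z)
    (hgen : StableUnderGeneralization Z) : Module.Flat A (A ⧸ germIdeal Z) :=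
  flat_quotient_of_pure _ fun _ hs => exists_eq_mul_of_mem_germIdeal hcl hgen hs

/-- flat quotient ⇒ pure -/
theorem pure_of_flat_quotient (I : Ideal A) [Module.Flat A (A ⧸ I)] {s : A} (hs : s ∈ I) :
    ∃ u ∈ I, s = u * s := by
  have h0 : ∑ _i : Unit, s • (1 : A ⧸ I) = 0 := by
    simp only [Finset.univ_unique, Finset.sum_singleton]
    rw [Algebra.smul_def, mul_one, Ideal.Quotient.algebraMap_eq, Ideal.Quotient.eq_zero_iff_mem]
    exact hs
  obtain ⟨k, a, y, h1, h2⟩ := Module.Flat.isTrivialRelation_of_sum_smul_eq_zero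
    (f := fun _ : Unit => s) (x := fun _ : Unit => (1 : A ⧸ I)) h0
  choose y' hy' using fun j => Ideal.Quotient.mk_surjective (y j)
  have h3 : Ideal.Quotient.mk I (∑ j, a () j * y' j) = 1 := by
    have h1' : (1 : A ⧸ I) = ∑ j, a () j • y j := h1 ()
    rw [map_sum, h1']
    refine Finset.sum_congr rfl fun j _ => ?_
    rw [map_mul, hy', Algebra.smul_def, Ideal.Quotient.algebraMap_eq]
  refine ⟨1 - ∑ j, a () j * y' j, ?_, ?_⟩
  · rw [← Ideal.Quotient.eq_zero_iff_mem, map_sub, map_one, h3, sub_self]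
  · have h4 : s * ∑ j, a () j * y' j = 0 := by
      rw [Finset.mul_sum]
      refine Finset.sum_eq_zero fun j _ => ?_
      have := h2 j
      simp only [Finset.univ_unique, Finset.sum_singleton] at this
      rw [← mul_assoc, this, zero_mul]
    rw [sub_mul, one_mul, mul_comm _ s, h4, sub_zero]

/-- uniqueness of pure ideals with given zero locus -/
theorem eq_of_flat_of_zeroLocus_eq (I J : Ideal A) [Module.Flat A (A ⧸ I)]
    [Module.Flat A (A ⧸ J)] (h : zeroLocus (I : Set A) = zeroLocus (J : Set A)) : I = J := by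
  have key : ∀ (I J : Ideal A) [Module.Flat A (A ⧸ I)],
      zeroLocus (I : Set A) = zeroLocus (J : Set A) → I ≤ J := by
    intro I J _ h s hs
    obtain ⟨u, hu, e⟩ := pure_of_flat_quotient I hs
    let 𝔠 : Ideal A := LinearMap.ker (LinearMap.toSpanSingleton A A s)
    have h𝔠 : ∀ a : A, a ∈ 𝔠 ↔ a * s = 0 := fun a => by
      simp only [𝔠, LinearMap.mem_ker, LinearMap.toSpanSingleton_apply, smul_eq_mul]
    have htop : 𝔠 ⊔ J = ⊤ := by
      by_contra hne
      obtain ⟨m, hm, hle⟩ := Ideal.exists_le_maximal _ hne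
      have hmJ : (⟨m, hm.isPrime⟩ : PrimeSpectrum A) ∈ zeroLocus (J : Set A) := by
        rw [mem_zeroLocus]
        exact fun x hx => hle (Ideal.mem_sup_right hx)
      rw [← h, mem_zeroLocus] at hmJ
      have hum : u ∈ m := hmJ hu
      have h1u : 1 - u ∈ m := hle (Ideal.mem_sup_left ((h𝔠 _).mpr (by
        rw [sub_mul, one_mul, ← e, sub_self])))
      have : (1 : A) ∈ m := by
        have := add_mem h1u hum
        rwa [sub_add_cancel] at this
      exact hm.ne_top ((Ideal.eq_top_iff_one _).mpr this)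
    obtain ⟨a, ha, j, hj, haj⟩ := Submodule.mem_sup.mp ((Ideal.eq_top_iff_one _).mp htop)
    have h1 : s = (a + j) * s := by rw [haj, one_mul]
    rw [add_mul, (h𝔠 a).mp ha, zero_add] at h1
    rw [h1]
    exact J.mul_mem_right _ hj
  exact le_antisymm (key I J h) (key J I h.symm)

end Groth.Agent.Lib.Helper24.PureIdeal
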