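import Mathlib
import Groth.Agent.Lib.Helper24.PureIdeal.Alg

/-!
# The germ ideal commutes with localization away from an element (helper24)
-/

set_option autoImplicit false
set_option linter.style.haveILetI false
universe u
open PrimeSpectrum

namespace Groth.Agent.Lib.Helper24.PureIdeal

variable {A : Type*} [CommRing A] {B : Type*} [CommRing B] [Algebra A B]

theorem map_germIdeal_le (Z : Set (PrimeSpectrum A)) :
    (germIdeal Z).map (algebraMap A B) ≤
      germIdeal (PrimeSpectrum.comap (algebraMap A B) ⁻¹' Z) := by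
  rw [Ideal.map_le_iff_le_comap]
  intro s hs z' hz'
  obtain ⟨t, ht, e⟩ := hs _ hz'
  refine ⟨algebraMap A B t, ht, ?_⟩
  rw [← map_mul, e, map_zero]

theorem exists_pow_mul_mem_germIdeal (f : A) [IsLocalization.Away f B]
    {Z : Set (PrimeSpectrum A)} (hcl : IsClosed Z) (hgen : StableUnderGeneralization Z) (a : A)
    (ha : algebraMap A B a ∈ germIdeal (PrimeSpectrum.comap (algebraMap A B) ⁻¹' Z)) :
    ∃ N : ℕ, f ^ N * a ∈ germIdeal Z := by
  let 𝔟 : Ideal A :=
    { carrier := {b | ∃ N : ℕ, b * (f ^ N * a) = 0}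
      add_mem' := by
        rintro x y ⟨N, hN⟩ ⟨M, hM⟩
        refine ⟨N + M, ?_⟩
        have : (x + y) * (f ^ (N + M) * a) = f ^ M * (x * (f ^ N * a)) + f ^ N * (y * (f ^ M * a)) := by
          rw [pow_add]; ring
        rw [this, hN, hM, mul_zero, mul_zero, add_zero]
      zero_mem' := ⟨0, zero_mul _⟩
      smul_mem' := by
        rintro c x ⟨N, hN⟩
        exact ⟨N, by rw [smul_eq_mul, mul_assoc, hN, mul_zero]⟩ }
  have h𝔟 : ∀ z ∈ Z, ¬ 𝔟 ≤ z.asIdeal := by
    intro z hz hle
    have hdisj : Disjoint (𝔟 : Set A)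
        ((Submonoid.powers f ⊔ z.asIdeal.primeCompl : Submonoid A) : Set A) := by
      rw [Set.disjoint_left]
      rintro x ⟨N, hN⟩ hxS
      obtain ⟨_, ⟨n, rfl⟩, t, ht, rfl⟩ := Submonoid.mem_sup.mp hxS
      apply ht
      apply hle
      refine ⟨n + N, ?_⟩
      rw [pow_add]
      rw [← hN]
      ring
    obtain ⟨q, hq, hbq, hqS⟩ := Ideal.exists_le_prime_disjoint _ _ hdisj
    have hqz : q ≤ z.asIdeal := by
      intro x hx
      by_contra hxz
      exact Set.disjoint_left.mp hqS hx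
        ((le_sup_right : z.asIdeal.primeCompl ≤ _) hxz)
    have hfq : f ∉ q := fun hf =>
      Set.disjoint_left.mp hqS hf
        ((le_sup_left : Submonoid.powers f ≤ _) (Submonoid.mem_powers f))
    have hqZ : (⟨q, hq⟩ : PrimeSpectrum A) ∈ Z :=
      hgen ((le_iff_specializes ⟨q, hq⟩ z).mp hqz) hz
    -- `q` comes from a prime of `B`
    have hrange : (⟨q, hq⟩ : PrimeSpectrum A) ∈ Set.range (PrimeSpectrum.comap (algebraMap A B)) := by
      rw [PrimeSpectrum.localization_away_comap_range B f]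
      exact hfq
    obtain ⟨q', hq'⟩ := hrange
    have hq'Z : q' ∈ PrimeSpectrum.comap (algebraMap A B) ⁻¹' Z := by
      show PrimeSpectrum.comap (algebraMap A B) q' ∈ Z
      rw [hq']; exact hqZ
    obtain ⟨τ, hτ, e⟩ := ha q' hq'Z
    obtain ⟨c, ⟨_, m, rfl⟩, rfl⟩ := IsLocalization.exists_mk'_eq (Submonoid.powers f) τ
    have hcq : c ∉ q := by
      intro hc
      apply hτ
      have h1 : algebraMap A B c ∈ q'.asIdeal := by
        have : c ∈ (PrimeSpectrum.comap (algebraMap A B) q').asIdeal := by rw [hq']; exact hc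
        exact this
      have h2 := IsLocalization.mk'_spec B c (⟨f ^ m, m, rfl⟩ : Submonoid.powers f)
      rw [← h2] at h1
      refine (q'.isPrime.mem_or_mem h1).resolve_right ?_
      intro h3
      have : f ^ m ∈ q := by
        have : f ^ m ∈ (PrimeSpectrum.comap (algebraMap A B) q').asIdeal := h3
        rwa [hq'] at this
      exact hfq (hq.mem_of_pow_mem m this)
    have h4 : algebraMap A B (c * a) = 0 := by
      have h2 := IsLocalization.mk'_spec B c (⟨f ^ m, m, rfl⟩ : Submonoid.powers f)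
      rw [map_mul, ← h2, mul_right_comm, e, zero_mul]
    obtain ⟨⟨_, k, rfl⟩, hk⟩ := (IsLocalization.map_eq_zero_iff (Submonoid.powers f) B _).mp h4
    apply hcq
    apply hbq
    refine ⟨k, ?_⟩
    rw [← hk]
    ring
  obtain ⟨b, ⟨N, hN⟩, j, hj, hbj⟩ := exists_add_eq_one hcl 𝔟 h𝔟
  refine ⟨N, fun z hz => ⟨b, fun hb => ?_, hN⟩⟩
  have : (1 : A) ∈ z.asIdeal := by rw [← hbj]; exact add_mem hb (hj z hz)
  exact z.isPrime.ne_top ((Ideal.eq_top_iff_one _).mpr this)

theorem map_germIdeal_away (f : A) [IsLocalization.Away f B]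
    {Z : Set (PrimeSpectrum A)} (hcl : IsClosed Z) (hgen : StableUnderGeneralization Z) :
    (germIdeal Z).map (algebraMap A B) =
      germIdeal (PrimeSpectrum.comap (algebraMap A B) ⁻¹' Z) := by
  refine le_antisymm (map_germIdeal_le Z) ?_
  intro b hb
  obtain ⟨a, ⟨_, n, rfl⟩, rfl⟩ := IsLocalization.exists_mk'_eq (Submonoid.powers f) b
  have ha : algebraMap A B a ∈ germIdeal (PrimeSpectrum.comap (algebraMap A B) ⁻¹' Z) := by
    rw [← IsLocalization.mk'_spec B a (⟨f ^ n, n, rfl⟩ : Submonoid.powers f)]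
    exact Ideal.mul_mem_right _ _ hb
  obtain ⟨N, hN⟩ := exists_pow_mul_mem_germIdeal f hcl hgen a ha
  rw [IsLocalization.mk'_mem_map_algebraMap_iff (Submonoid.powers f)]
  exact ⟨f ^ N, ⟨N, rfl⟩, hN⟩

end Groth.Agent.Lib.Helper24.PureIdeal
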