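import Mathlib
import Groth.Agent.Lib.Helper24.PureIdeal.Loc

/-!
# Flat closed subschemes ↔ closed subsets stable under generalization (helper24)
-/

set_option autoImplicit false
set_option linter.style.haveILetI false
universe u
open CategoryTheory AlgebraicGeometry TopologicalSpace

namespace Groth.Agent.Lib.Helper24.PureIdeal

variable {X : Scheme.{u}}

/-- the trace of `Z` on the spectrum of an affine open -/
def ZU (Z : Set X) (U : X.affineOpens) : Set (PrimeSpectrum Γ(X, U)) := U.2.fromSpec ⁻¹' Z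

theorem isClosed_ZU {Z : Set X} (hcl : IsClosed Z) (U : X.affineOpens) : IsClosed (ZU Z U) :=
  hcl.preimage U.2.fromSpec.continuous

theorem gen_ZU {Z : Set X} (hgen : StableUnderGeneralization Z) (U : X.affineOpens) :
    StableUnderGeneralization (ZU Z U) :=
  hgen.preimage U.2.fromSpec.continuous

/-- the ideal of sections with vanishing germs along `Z` -/
def idealOf (Z : Set X) (U : X.affineOpens) : Ideal Γ(X, U) := germIdeal (ZU Z U)

theorem ZU_basicOpen (Z : Set X) (U : X.affineOpens) (f : Γ(X, U)) :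
    PrimeSpectrum.comap (algebraMap Γ(X, U) Γ(X, X.basicOpen f)) ⁻¹' ZU Z U =
      ZU Z (X.affineBasicOpen f) := by
  ext p
  have h := U.2.map_fromSpec (X.affineBasicOpen f).2 (homOfLE (X.basicOpen_le f)).op
  have h2 : U.2.fromSpec (PrimeSpectrum.comap (algebraMap Γ(X, U) Γ(X, X.basicOpen f)) p) =
      (X.affineBasicOpen f).2.fromSpec p :=
    congrArg (fun g : Spec Γ(X, X.basicOpen f) ⟶ X => g p) h
  exact Iff.of_eq (congrArg (· ∈ Z) h2)

theorem map_idealOf {Z : Set X} (hcl : IsClosed Z) (hgen : StableUnderGeneralization Z)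
    (U : X.affineOpens) (f : Γ(X, U)) :
    (idealOf Z U).map (X.presheaf.map (homOfLE <| X.basicOpen_le f).op).hom =
      idealOf Z (X.affineBasicOpen f) := by
  haveI := U.2.isLocalization_basicOpen f
  have h := map_germIdeal_away (B := Γ(X, X.basicOpen f)) f (isClosed_ZU hcl U) (gen_ZU hgen U)
  rw [ZU_basicOpen] at h
  exact h

theorem mem_zeroLocus_idealOf_iff {Z : Set X} (hcl : IsClosed Z)
    (hgen : StableUnderGeneralization Z) (U : X.affineOpens) (x : X) (hx : x ∈ U.1) :
    x ∈ Z ↔ x ∈ X.zeroLocus (U := U.1) (idealOf Z U : Set Γ(X, U)) := by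
  let p : ↥(Spec Γ(X, U)) := U.2.primeIdealOf ⟨x, hx⟩
  have h1 : U.2.fromSpec p = x := U.2.fromSpec_primeIdealOf ⟨x, hx⟩
  have h2 := U.2.fromSpec_preimage_zeroLocus (idealOf Z U : Set Γ(X, U))
  have h3 : PrimeSpectrum.zeroLocus (idealOf Z U : Set Γ(X, U)) = ZU Z U :=
    zeroLocus_germIdeal (isClosed_ZU hcl U) (gen_ZU hgen U)
  rw [h3] at h2
  have h4 : p ∈ U.2.fromSpec ⁻¹' X.zeroLocus (idealOf Z U : Set Γ(X, U)) ↔ p ∈ ZU Z U :=
    Iff.of_eq (congrArg (p ∈ ·) h2)
  have h5 : U.2.fromSpec p ∈ X.zeroLocus (idealOf Z U : Set Γ(X, U)) ↔ U.2.fromSpec p ∈ Z := h4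
  rw [h1] at h5
  exact h5.symm

/-- the flat closed subscheme structure on `Z` -/
noncomputable def sheafOf (Z : Set X) (hcl : IsClosed Z) (hgen : StableUnderGeneralization Z) :
    X.IdealSheafData :=
  Scheme.IdealSheafData.mkOfMemSupportIff (idealOf Z) (map_idealOf hcl hgen) Z
    (fun U x hx => mem_zeroLocus_idealOf_iff hcl hgen U x hx)

theorem support_sheafOf (Z : Set X) (hcl : IsClosed Z) (hgen : StableUnderGeneralization Z) :
    ((sheafOf Z hcl hgen).support : Set X) = Z := rfl

theorem ideal_sheafOf (Z : Set X) (hcl : IsClosed Z) (hgen : StableUnderGeneralization Z)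
    (U : X.affineOpens) : (sheafOf Z hcl hgen).ideal U = idealOf Z U := rfl

/-- flatness of `subschemeι` is equivalent to flatness of all quotients -/
theorem flat_subschemeι_iff (I : X.IdealSheafData) :
    Flat I.subschemeι ↔ ∀ U : X.affineOpens, Module.Flat Γ(X, U) (Γ(X, U) ⧸ I.ideal U) := by
  have key : ∀ U : X.affineOpens, (I.subschemeι.app U).hom.Flat ↔
      Module.Flat Γ(X, U) (Γ(X, U) ⧸ I.ideal U) := by
    intro U
    rw [I.subschemeι_app U, ← RingHom.flat_algebraMap_iff, Ideal.Quotient.algebraMap_eq]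
    have hiso : (I.subschemeObjIso U).inv.hom.Flat :=
      RingHom.Flat.of_bijective ((ConcreteCategory.isIso_iff_bijective _).mp inferInstance)
    have hiso' : (I.subschemeObjIso U).hom.hom.Flat :=
      RingHom.Flat.of_bijective ((ConcreteCategory.isIso_iff_bijective _).mp inferInstance)
    constructor
    · intro h
      have := h.comp hiso'
      rw [← CommRingCat.hom_comp, Category.assoc, Iso.inv_hom_id, Category.comp_id] at this
      exact this
    · intro h
      exact h.comp hiso
  constructor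
  · intro hf U
    rw [← key, Scheme.Hom.app_eq_appLE]
    exact HasRingHomProperty.appLE @Flat I.subschemeι hf U ⟨_, U.2.preimage I.subschemeι⟩ le_rfl
  · intro h
    rw [HasRingHomProperty.iff_appLE (P := @Flat)]
    intro U V e
    have h1 : (I.subschemeι.app U).hom.Flat := (key U).mpr (h U)
    have h2 : ((𝟙 I.subscheme : I.subscheme ⟶ I.subscheme).appLE (I.subschemeι ⁻¹ᵁ U.1) V.1
        e).hom.Flat :=
      HasRingHomProperty.appLE @Flat (𝟙 I.subscheme) inferInstance
        ⟨_, U.2.preimage I.subschemeι⟩ V e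
    have h4 : (𝟙 I.subscheme : I.subscheme ⟶ I.subscheme).appLE (I.subschemeι ⁻¹ᵁ U.1) V.1 e =
        I.subscheme.presheaf.map (homOfLE e).op := by
      simp only [Scheme.Hom.appLE, Scheme.Hom.id_app]
      exact Category.id_comp _
    rw [h4] at h2
    have h3 : I.subschemeι.appLE U.1 V.1 e = I.subschemeι.app U ≫
        I.subscheme.presheaf.map (homOfLE e).op := rfl
    rw [h3, CommRingCat.hom_comp]
    exact h1.comp h2

theorem flat_sheafOf (Z : Set X) (hcl : IsClosed Z) (hgen : StableUnderGeneralization Z) :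
    Flat (sheafOf Z hcl hgen).subschemeι := by
  rw [flat_subschemeι_iff]
  intro U
  exact flat_quotient_germIdeal (isClosed_ZU hcl U) (gen_ZU hgen U)

end Groth.Agent.Lib.Helper24.PureIdeal
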