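import Mathlib
import Groth.Agent.Lib.Helper24.PureIdeal.Sch

/-!
# S9351: flat closed subschemes ↔ closed subsets stable under generalization (helper24)
-/

set_option autoImplicit false
set_option linter.style.haveILetI false
universe u
open CategoryTheory AlgebraicGeometry TopologicalSpace

namespace Groth.Agent.Lib.Helper24.PureIdeal

variable {X : Scheme.{u}}

theorem stableUnderGeneralization_support (I : X.IdealSheafData) (hI : Flat I.subschemeι) :
    StableUnderGeneralization (I.support : Set X) := by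
  intro x x' hx'x hx
  rw [← I.range_subschemeι] at hx ⊢
  obtain ⟨z, rfl⟩ := hx
  obtain ⟨z', -, hz'⟩ := Flat.generalizingMap I.subschemeι hx'x
  exact ⟨z', hz'⟩

theorem zeroLocus_ideal_eq (I : X.IdealSheafData) (U : X.affineOpens) :
    PrimeSpectrum.zeroLocus (I.ideal U : Set Γ(X, U)) = U.2.fromSpec ⁻¹' (I.support : Set X) := by
  rw [← U.2.fromSpec_preimage_zeroLocus]
  ext p
  have hp : U.2.fromSpec p ∈ U.1 := by
    have : U.2.fromSpec p ∈ Set.range U.2.fromSpec := ⟨p, rfl⟩
    rw [U.2.range_fromSpec] at this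
    exact this
  exact (Scheme.IdealSheafData.mem_support_iff_of_mem (I := I) (U := U) hp).symm

theorem eq_of_support_eq (I J : X.IdealSheafData) (hI : Flat I.subschemeι)
    (hJ : Flat J.subschemeι) (h : I.support = J.support) : I = J := by
  apply Scheme.IdealSheafData.ext
  funext U
  haveI := (flat_subschemeι_iff I).mp hI U
  haveI := (flat_subschemeι_iff J).mp hJ U
  apply eq_of_flat_of_zeroLocus_eq
  rw [zeroLocus_ideal_eq, zeroLocus_ideal_eq, h]

theorem le_ker_of_range_subset (I : X.IdealSheafData) (hI : Flat I.subschemeι) {Y : Scheme.{u}}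
    (g : Y ⟶ X) (hg : Set.range g.base ⊆ (I.support : Set X)) : I ≤ g.ker := by
  rw [Scheme.Hom.ker, Scheme.IdealSheafData.le_ofIdeals_iff]
  intro U s hs
  haveI := (flat_subschemeι_iff I).mp hI U
  obtain ⟨u, hu, e⟩ := pure_of_flat_quotient (I.ideal U) hs
  rw [RingHom.mem_ker]
  have key : ∀ (y : Y) (hy : y ∈ g ⁻¹ᵁ U.1),
      (Y.presheaf.germ (g ⁻¹ᵁ U.1) y hy).hom ((g.app U.1).hom s) = 0 := by
    intro y hy
    have hx : g y ∈ (I.support : Set X) := hg ⟨y, rfl⟩
    have hxU : g y ∈ U.1 := hy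
    have hz : g y ∈ X.zeroLocus (U := U.1) (I.ideal U : Set Γ(X, U)) :=
      (Scheme.IdealSheafData.mem_support_iff_of_mem (I := I) (U := U) hxU).mp hx
    have hnot : y ∉ Y.basicOpen ((g.app U.1).hom u) := by
      rw [← Scheme.preimage_basicOpen]
      intro hmem
      exact ((Scheme.mem_zeroLocus_iff X _ _).mp hz) u hu hmem
    have hnu : ¬ IsUnit ((Y.presheaf.germ (g ⁻¹ᵁ U.1) y hy).hom ((g.app U.1).hom u)) := by
      rwa [← Scheme.mem_basicOpen]
    have h1 : (g.app U.1).hom s = (g.app U.1).hom u * (g.app U.1).hom s := by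
      rw [← map_mul, ← e]
    have h2 := congrArg (Y.presheaf.germ (g ⁻¹ᵁ U.1) y hy).hom h1
    rw [map_mul] at h2
    have h3 : IsUnit (1 - (Y.presheaf.germ (g ⁻¹ᵁ U.1) y hy).hom ((g.app U.1).hom u)) :=
      IsLocalRing.isUnit_one_sub_self_of_mem_nonunits _ hnu
    have h4 : (1 - (Y.presheaf.germ (g ⁻¹ᵁ U.1) y hy).hom ((g.app U.1).hom u)) *
        (Y.presheaf.germ (g ⁻¹ᵁ U.1) y hy).hom ((g.app U.1).hom s) = 0 := by
      rw [sub_mul, one_mul, ← h2, sub_self]
    exact (h3.mul_right_eq_zero).mp h4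
  exact TopCat.Presheaf.section_ext Y.sheaf (g ⁻¹ᵁ U.1) _ _
    (fun y hy => (key y hy).trans (map_zero _).symm)

theorem main (X : Scheme.{u}) :
    Set.BijOn (fun I : X.IdealSheafData => I.support) {I : X.IdealSheafData | Flat I.subschemeι}
        {Z : TopologicalSpace.Closeds ↑X | StableUnderGeneralization (Z : Set ↑X)} ∧
      ∀ I : X.IdealSheafData, Flat I.subschemeι → ∀ (Y : Scheme.{u}) (g : Y ⟶ X),
        Set.range g.base ⊆ (I.support : Set ↑X) →
          ∃ g' : Y ⟶ I.subscheme, g' ≫ I.subschemeι = g := by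
  refine ⟨⟨?_, ?_, ?_⟩, ?_⟩
  · intro I hI
    exact stableUnderGeneralization_support I hI
  · intro I hI J hJ h
    exact eq_of_support_eq I J hI hJ h
  · intro Z hZ
    refine ⟨sheafOf (Z : Set X) Z.isClosed hZ, flat_sheafOf _ _ _, ?_⟩
    exact SetLike.coe_injective (support_sheafOf _ _ _)
  · intro I hI Y g hg
    have hle := le_ker_of_range_subset I hI g hg
    refine ⟨g.toImage ≫ Scheme.IdealSheafData.inclusion hle, ?_⟩
    rw [Category.assoc, Scheme.IdealSheafData.inclusion_subschemeι, Scheme.Hom.toImage_imageι]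

end Groth.Agent.Lib.Helper24.PureIdeal
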